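import Groth.Prelude.Def_PicLoc
import Groth.Prelude.Def_AlgSpRep
import Mathlib.Algebra.Category.Ring.FilteredColimits
import Mathlib.AlgebraicGeometry.AffineTransitionLimit

/-! # The spectrum of an algebra is the limit of the spectra of its finitely generated subalgebras -/

set_option autoImplicit false
set_option linter.style.haveILetI false
set_option backward.isDefEq.respectTransparency false
set_option backward.isDefEq.respectTransparency.types false

universe u

open CategoryTheory CategoryTheory.Limits AlgebraicGeometry Opposite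

namespace Groth.Agent.GeomRedPts

variable (k : Type u) [Field k] (A : Type u) [CommRing A] [Algebra k A]

/-- The subalgebra generated by a finite set. -/
abbrev gen (s : Finset A) : Subalgebra k A := Algebra.adjoin k (s : Set A)

theorem gen_mono {s t : Finset A} (h : s ≤ t) : gen k A s ≤ gen k A t := Algebra.adjoin_mono h

theorem mem_gen (a : A) : a ∈ gen k A {a} := Algebra.subset_adjoin (by simp)

/-- The diagram of rings. -/
noncomputable def ringDiag : Finset A ⥤ CommRingCat.{u} where
  obj s := CommRingCat.of (gen k A s)
  map {s t} a := CommRingCat.ofHom (Subalgebra.inclusion (gen_mono k A (leOfHom a))).toRingHom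
  map_id s := by ext x; rfl
  map_comp a b := by ext x; rfl

/-- The cocone of rings. -/
noncomputable def ringCocone : Cocone (ringDiag k A) where
  pt := CommRingCat.of A
  ι :=
    { app := fun s => CommRingCat.ofHom (gen k A s).val.toRingHom
      naturality := fun s t a => by ext x; rfl }

/-- The cocone is a colimit. -/
noncomputable def isColimitRingCocone : IsColimit (ringCocone k A) := by
  classical
  have key : ∀ (c : Cocone (ringDiag k A)) (s : Finset A) (b : A) (hb : b ∈ gen k A s),
      c.ι.app {b} (⟨b, mem_gen k A b⟩ : gen k A {b}) = c.ι.app s (⟨b, hb⟩ : gen k A s) := by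
    intro c s b hb
    rw [← c.w (homOfLE (le_sup_left : {b} ≤ {b} ⊔ s)), ← c.w (homOfLE (le_sup_right : s ≤ {b} ⊔ s))]
    rfl
  let dfun : ∀ c : Cocone (ringDiag k A), A → c.pt := fun c b => c.ι.app {b} (⟨b, mem_gen k A b⟩ : gen k A {b})
  let d : ∀ c : Cocone (ringDiag k A), A →+* c.pt := fun c =>
    { toFun := dfun c
      map_one' := by
        rw [show dfun c 1 = _ from key c {1} 1 (one_mem _)]
        exact map_one (c.ι.app {1}).hom
      map_zero' := by
        rw [show dfun c 0 = _ from key c {0} 0 (zero_mem _)]
        exact map_zero (c.ι.app {0}).hom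
      map_add' := fun x y => by
        have hx : x ∈ gen k A {x, y} := Algebra.subset_adjoin (by simp)
        have hy : y ∈ gen k A {x, y} := Algebra.subset_adjoin (by simp)
        rw [show dfun c (x + y) = _ from key c {x, y} (x + y) (add_mem hx hy),
          show dfun c x = _ from key c {x, y} x hx, show dfun c y = _ from key c {x, y} y hy]
        exact map_add (c.ι.app {x, y}).hom (⟨x, hx⟩ : gen k A {x, y}) ⟨y, hy⟩
      map_mul' := fun x y => by
        have hx : x ∈ gen k A {x, y} := Algebra.subset_adjoin (by simp)
        have hy : y ∈ gen k A {x, y} := Algebra.subset_adjoin (by simp)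
        rw [show dfun c (x * y) = _ from key c {x, y} (x * y) (mul_mem hx hy),
          show dfun c x = _ from key c {x, y} x hx, show dfun c y = _ from key c {x, y} y hy]
        exact map_mul (c.ι.app {x, y}).hom (⟨x, hx⟩ : gen k A {x, y}) ⟨y, hy⟩ }
  exact
    { desc := fun c => CommRingCat.ofHom (d c)
      fac := fun c s => by
        ext x
        exact key c s x.1 x.2
      uniq := fun c m hm => by
        ext (x : A)
        exact congr($(hm {x}) (⟨x, mem_gen k A x⟩ : gen k A {x})) }

/-- The diagram of schemes over `Spec k`. -/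
noncomputable def diag : (Finset A)ᵒᵖ ⥤ Over (PicLoc.base k) where
  obj s := PicLoc.spc k (gen k A s.unop)
  map {s t} a := PicLoc.spcMap k (Subalgebra.inclusion (gen_mono k A (leOfHom a.unop)))
  map_id s := by
    refine Over.OverMorphism.ext ?_
    exact (congrArg Spec.map ((ringDiag k A).map_id s.unop)).trans (Spec.map_id _)
  map_comp {r s t} a b := by
    refine Over.OverMorphism.ext ?_
    exact (congrArg Spec.map ((ringDiag k A).map_comp b.unop a.unop)).trans (Spec.map_comp _ _)

/-- The cone over it. -/
noncomputable def cone : Cone (diag k A) where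
  pt := PicLoc.spc k A
  π :=
    { app := fun s => PicLoc.spcMap k (gen k A s.unop).val
      naturality := fun s t a => by
        refine Over.OverMorphism.ext ?_
        refine (Category.id_comp _).trans ?_
        exact ((congrArg Spec.map ((ringCocone k A).w a.unop)).symm.trans (Spec.map_comp _ _)) }

/-- The underlying cone of schemes is a limit. -/
noncomputable def isLimitCone : IsLimit ((Over.forget _).mapCone (cone k A)) := by
  refine (isLimitOfPreserves Scheme.Spec (isColimitRingCocone k A).op).ofIsoLimit ?_
  exact Cone.ext (Iso.refl _) fun s => (Category.id_comp _).symm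

variable {k A} {G : AlgSp.PSp (PicLoc.base k)}

theorem spcMap_comp {A₁ A₂ A₃ : Type u} [CommRing A₁] [Algebra k A₁] [CommRing A₂] [Algebra k A₂] [CommRing A₃]
    [Algebra k A₃] (φ : A₁ →ₐ[k] A₂) (φ' : A₂ →ₐ[k] A₃) :
    PicLoc.spcMap k φ' ≫ PicLoc.spcMap k φ = PicLoc.spcMap k (φ'.comp φ) := by
  refine Over.OverMorphism.ext ?_
  exact (Spec.map_comp (CommRingCat.ofHom φ.toRingHom) (CommRingCat.ofHom φ'.toRingHom)).symm

theorem exists_fg_lift (hG : AlgSp.IsLimitPreserving G) (ξ : G.obj (op (PicLoc.spc k A))) :
    ∃ (s : Finset A) (η : G.obj (op (PicLoc.spc k (gen k A s)))),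
      G.map (PicLoc.spcMap k (gen k A s).val).op η = ξ := by
  obtain ⟨hcol⟩ := hG (diag k A) (cone k A) (isLimitCone k A) (fun s => inferInstanceAs (IsAffine (Spec _)))
    (inferInstanceAs (IsAffine (Spec _)))
  obtain ⟨j, z, hz⟩ := Types.jointly_surjective_of_isColimit hcol ξ
  exact ⟨j.unop.unop, z, hz⟩

theorem exists_fg_eq (hG : AlgSp.IsLimitPreserving G) (s : Finset A)
    (η η' : G.obj (op (PicLoc.spc k (gen k A s))))
    (h : G.map (PicLoc.spcMap k (gen k A s).val).op η = G.map (PicLoc.spcMap k (gen k A s).val).op η') :
    ∃ (t : Finset A) (hst : s ≤ t),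
      G.map (PicLoc.spcMap k (Subalgebra.inclusion (gen_mono k A hst))).op η =
        G.map (PicLoc.spcMap k (Subalgebra.inclusion (gen_mono k A hst))).op η' := by
  classical
  obtain ⟨hcol⟩ := hG (diag k A) (cone k A) (isLimitCone k A) (fun s => inferInstanceAs (IsAffine (Spec _)))
    (inferInstanceAs (IsAffine (Spec _)))
  obtain ⟨j, f, hj⟩ := (Types.FilteredColimit.isColimit_eq_iff' hcol (i := op (op s)) η η').1 h
  exact ⟨j.unop.unop, leOfHom f.unop.unop, hj⟩

end Groth.Agent.GeomRedPts
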